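import Cfsg.Agent.L0.T3.E

/-! Numerical restrictions in the remaining case. -/

set_option autoImplicit false
set_option linter.unusedSectionVars false

namespace Cfsg.Agent.L0.T3

/-- The numerical conditions. -/
def Ch0 (m i s f u : ℕ) : Prop := (2 ^ m - 1 ≤ s ∧ u % 2 = 1 ∧ 1 < u ∧ u ∣ ((2 ^ m) ^ i + 1) * (2 ^ m - 1) * (f - 1) ∧
  (2 ^ m) ^ i ∣ (f - 1) * (u - 1) ∧ (i = 3 ∨ Nat.gcd u f ≠ 1 ∨ s = u * (2 ^ m - 2))) →
  m = 2 ∧ i = 1 ∧ u = 3 ∧ f = 3 ∧ s = 4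

instance instDecCh0 (m i s f u : ℕ) : Decidable (Ch0 m i s f u) := by
  unfold Ch0
  infer_instance

/-- A finite check. -/
def Chk (m i r S Kk : ℕ) : Prop :=
  ∀ s < S, ∀ k < Kk, 0 < k → Ch0 m i s (r * k + 1) (((2 ^ m) ^ i + 1) * (2 ^ m - 1) - s * (r * k + 1))

instance instDecChk (m i r S Kk : ℕ) : Decidable (Chk m i r S Kk) := by
  unfold Chk
  infer_instance

theorem chk : Chk 2 1 2 6 3 ∧ Chk 2 3 8 22 9 ∧ Chk 3 1 4 13 3 ∧ Chk 3 2 16 27 5 ∧ Chk 3 3 64 56 9 := by decide +kernel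

open Cfsg.Agent.H5.TA Subgroup MulAction Finset
open scoped Classical

theorem dvd_of_stab {H X : Type*} [Group H] [Finite H] [Finite X] [MulAction H X] {r : ℕ}
    (h : ∀ x : X, Nat.card (stabilizer H x) ∣ r) : Nat.card H ∣ r * Nat.card X := by
  have := Fintype.ofFinite (Quotient (orbitRel H X))
  rw [Nat.card_congr (selfEquivSigmaOrbits' H X), Nat.card_sigma, Finset.mul_sum]
  refine Finset.dvd_sum fun w _ => ?_
  obtain ⟨x, rfl⟩ := Quotient.exists_rep w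
  rw [← (stabilizer H x).card_mul_index, index_stabilizer]
  exact Nat.mul_dvd_mul (h x) (by rw [← Nat.card_coe_set_eq]; rfl)

theorem dvd_of_stab' {G X : Type*} [Group G] [Finite G] (H : Subgroup G) (s : Finset X) (φ : G → X → X)
    (h1 : ∀ x, φ 1 x = x) (h2 : ∀ g h x, φ (g * h) x = φ g (φ h x)) (h3 : ∀ g ∈ H, ∀ x ∈ s, φ g x ∈ s) {r : ℕ}
    (h : ∀ x ∈ s, ∀ P : Subgroup G, P ≤ H → (∀ g ∈ P, φ g x = x) → Nat.card P ∣ r) : Nat.card H ∣ r * s.card := by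
  let _ : MulAction H s :=
    { smul := fun g x => ⟨φ g x, h3 g g.2 x x.2⟩
      one_smul := fun x => Subtype.ext (h1 x)
      mul_smul := fun g h x => Subtype.ext (h2 g h x) }
  have := dvd_of_stab (H := H) (X := s) (r := r) fun x => by
    rw [← Subgroup.card_map_of_injective H.subtype_injective]
    refine h x x.2 _ (map_subtype_le _) ?_
    rintro _ ⟨g, hg, rfl⟩
    exact congrArg Subtype.val hg
  simpa using this

theorem four_bound {K : Type} [Field K] (h2 : (2 : K) = 0) (θ : K →+* K) (W : Finset K)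
    (ha : ∀ a ∈ W, ∀ b ∈ W, a + b ∈ W) (hn : ∀ a ∈ W, a ≠ 0 → a * θ a = 1) : W.card ≤ 4 := by
  by_cases k1 : ∀ a ∈ W, a = 0
  · exact (card_le_one.2 fun a h b h' => (k1 a h).trans (k1 b h').symm).trans (by norm_num)
  push Not at k1
  obtain ⟨a, a1, a2⟩ := k1
  have k : ∀ b ∈ W, b ≠ 0 → b ≠ a → a ^ 2 + a * b + b ^ 2 = 0 := fun b b1 b2 b3 => by
    have e1 := hn a a1 a2
    have e2 := hn b b1 b2
    have e3 := hn _ (ha a a1 b b1) fun e => b3 (by linear_combination e - a * h2)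
    rw [map_add] at e3
    linear_combination a * b * e3 - (a * b + b ^ 2) * e1 - (a * b + a ^ 2) * e2 + (a * b - a * b) * h2
      + (a ^ 2 + b ^ 2 - a ^ 2 - b ^ 2) * h2
  by_cases k2 : ∀ b ∈ W, b = 0 ∨ b = a
  · exact (card_le_card (t := {0, a}) fun b hb => by simpa using k2 b hb).trans (card_le_two.trans (by norm_num))
  push Not at k2
  obtain ⟨b, b1, b2, b3⟩ := k2
  refine (card_le_card (t := {0, a, b, a + b}) fun c hc => ?_).trans card_le_four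
  by_contra hc'
  simp only [mem_insert, mem_singleton, not_or] at hc'
  have e : (c - b) * (c - (a + b)) = 0 := by
    linear_combination k c hc hc'.1 hc'.2.1 - k b b1 b2 b3 + (b ^ 2 + a * b - a * c - b * c) * h2
  rcases mul_eq_zero.1 e with e | e
  · exact hc'.2.2.1 (sub_eq_zero.1 e)
  · exact hc'.2.2.2 (sub_eq_zero.1 e)

variable {G Om : Type*} [Group G] [Fintype G] [Fintype Om] [MulAction G Om] {F K : Type} [Field F] [Field K]
  {m i : ℕ} {C : Cfg G Om F K m i}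

theorem pow_four_of_comm {N : Subgroup G} (R : R0 N F K m i) (hi : i ≠ 3) {g u : G} (hg : g ∈ N) (hu : Iv N u)
    (h : Commute g u) : g ^ 2 ^ 2 = 1 := by
  obtain ⟨R', rfl⟩ := R.exists_at hu
  obtain ⟨s, hs, t, ht, rfl⟩ := (R'.mem_B hg).1 (R'.mem_B_of_comm hg (R'.ζ_mem 1) hu.2.1 h)
  have h1 : t * R'.ζ 1 * t⁻¹ = R'.ζ 1 := by
    have := h.eq
    rw [← mul_assoc, R'.ζ_comm 1 s hs, mul_assoc, mul_assoc] at this
    rw [mul_left_cancel this, mul_inv_cancel_right]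
  rw [R'.ψ_inj t ht (R'.ν_inj hi ((R'.T_cent ht (R'.ζ_mem 1) hu.2.1 h1).trans R'.ν_one.symm)), mul_one]
  exact R'.pow_four hs

theorem conj_Dab {a b : Om} {g t : G} (ha : g • a = a) (hb : g • b = b) (ht : t ∈ Dab C a b) :
    g * t * g⁻¹ ∈ Dab C a b := by
  rw [mem_DP] at ht ⊢
  exact ⟨ht.1.conj g, by rw [← ha, conj_smul_iff, ht.2.1], by rw [← hb, conj_smul_iff, ht.2.2]⟩

theorem conj_Dab' {a b : Om} {g t : G} (ha : g • a = b) (hb : g • b = a) (ht : t ∈ Dab C a b) :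
    g * t * g⁻¹ ∈ Dab C a b := by
  rw [mem_DP] at ht ⊢
  exact ⟨ht.1.conj g, by rw [← hb, conj_smul_iff, ht.2.2], by rw [← ha, conj_smul_iff, ht.2.1]⟩

theorem conj_eq_iff {g t : G} : g * t * g⁻¹ = t ↔ Commute g t := mul_inv_eq_iff_eq_mul

namespace NC

variable (B : NC C)
include B

theorem Ys_eq {a b : Om} (h : a ≠ b) {t : G} (ht : t ∈ Dab C a b) : Ys C a b t = {t} :=
  Finset.eq_singleton_iff_unique_mem.2 ⟨(B.mx a b t h ht).t_mem, fun u hu =>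
    B.hs a b t u h ht (mem_DP.2 ⟨(mem_DP.1 hu).1, (mem_DP.1 hu).2.1, (mem_DP.1 hu).2.2.1⟩) (mem_DP.1 hu).2.2.2⟩

omit B in
theorem FY_eq (t : G) : FY Om {t} = Fx Om t := by ext; simp [mem_FY]

theorem odd_f {t : G} (ht : D C t) : Odd (Fx Om t).card := by
  obtain ⟨a, -⟩ := ht.exists_fix
  obtain ⟨b, hab⟩ := C.exists_ne a
  obtain ⟨u, hu⟩ := B.H.exists_Dab hab
  have := (B.mx a b u hab (mem_DP.2 hu)).odd
  rwa [B.Ys_eq hab (mem_DP.2 hu), FY_eq, card_Fx hu.1 ht] at this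

theorem exists_fix {t d : G} (ht : D C t) (hd : d * d = 1) (h : Commute d t) : ∃ x : Om, t • x = x ∧ d • x = x := by
  obtain ⟨x, h1, h2⟩ := odd_fix' (s := Fx Om t) (B.odd_f ht) hd fun x hx => mem_Fx.2 (comm_smul h (mem_Fx.1 hx))
  exact ⟨x, mem_Fx.1 h1, h2⟩

theorem odd_u {a b : Om} (h : a ≠ b) : Odd (Dab C a b).card := by
  obtain ⟨t, ht⟩ := B.H.exists_Dab h
  have := odd_of_one_fix (fun y : Dab C a b => (⟨_, conj_Dab ht.2.1 ht.2.2 y.2⟩ : Dab C a b))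
    (fun y => Subtype.ext (by simp only; rw [ht.1.inv, ← mul_assoc, ← mul_assoc, ht.1.sq, mul_assoc, ht.1.sq]; simp))
    ⟨t, mem_DP.2 ht⟩ fun y => by
      rw [Subtype.ext_iff, Subtype.ext_iff, conj_eq_iff]
      exact ⟨fun k => B.hs a b t y h (mem_DP.2 ht) y.2 k.symm, fun k => k ▸ Commute.refl _⟩
  rwa [Nat.card_eq_fintype_card, Fintype.card_coe] at this

theorem conj2 {a b : Om} (h : a ≠ b) {t u : G} (ht : t ∈ Dab C a b) (hu : u ∈ Dab C a b) :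
    ∃ g ∈ C.N a, g ∈ C.N b ∧ g * t * g⁻¹ = u := by
  by_cases k : Commute t u
  · exact ⟨1, one_mem _, one_mem _, by rw [B.hs a b u t h hu ht k]; simp⟩
  · exact B.H.conj2 ht hu k

theorem card_sw {a b : Om} (h : a ≠ b) {t : G} (ht : t ∈ Dab C a b) :
    (DP C fun d => d • a = b ∧ Commute d t).card + 1 = 2 ^ m - 1 := by
  have := (B.mx a b t h ht).cnt (s := (DP C fun d => d • a = b ∧ Commute d t).card)
  rw [B.Ys_eq h ht, FY_eq, card_singleton] at this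
  refine this fun x hx hxa => ?_
  obtain ⟨g, g1, g2⟩ := C.two a x a b hxa.symm h
  have ht' := mem_DP.1 ht
  obtain ⟨g', g3, g4, g5⟩ := B.conj2 h (t := g * t * g⁻¹) (mem_DP.2 ⟨ht'.1.conj g,
    by rw [← g1, conj_smul_iff, ht'.2.1], by rw [← g2, conj_smul_iff, mem_Fx.1 hx]⟩) ht
  have e1 : (g' * g) • a = a := by rw [mul_smul, g1, C.fix _ _ g3]
  have e2 : (g' * g) • x = b := by rw [mul_smul, g2, C.fix _ _ g4]
  have e3 : g' * g * t * (g' * g)⁻¹ = t := by nth_rw 2 [← g5]; group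
  refine card_conj (g' * g) fun d hd => ?_
  nth_rw 1 [← e1, ← e2, ← e3]
  rw [conj_smul_iff, conj_comm_iff]
  refine ⟨fun k => ⟨⟨hd, mem_CY.2 (by simpa using k.2), fun k' => hxa ?_⟩, k.1⟩,
    fun k => ⟨k.2, mem_CY.1 k.1.2.1 t (mem_singleton_self t)⟩⟩
  rw [← k.1, mem_singleton.1 k', ht'.2.1]

theorem sgt {a b : Om} (h : a ≠ b) : 2 ^ m - 1 ≤ (Sw C a b).card := by
  by_contra! hlt
  have k : ∀ t ∈ Dab C a b, ∀ d ∈ Sw C a b, Commute d t := fun t ht d hd => by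
    have : (DP C fun d => d • a = b ∧ Commute d t) = Sw C a b :=
      Finset.eq_of_subset_of_card_le (fun d hd => mem_DP.2 ⟨(mem_DP.1 hd).1, (mem_DP.1 hd).2.1⟩)
        (by have := B.card_sw h ht; omega)
    exact (mem_DP.1 (this ▸ hd)).2.2
  obtain ⟨t, ht, u, hu, n⟩ := one_lt_card.1 (B.hu a b h)
  obtain ⟨d, hd⟩ : (DP C fun d => d • a = b ∧ Commute d t).Nonempty := card_pos.1 (by
    have := B.card_sw h ht
    have := (C.loc a).some.four_le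
    omega)
  rw [mem_DP] at hd
  have ht' := mem_DP.1 ht
  obtain ⟨x, h1, h2⟩ := B.exists_fix ht'.1 hd.1.sq hd.2.2
  have h3 := B.H.mul_D ht'.1 hd.1 h1 h2 hd.2.2 fun e => h (by rw [← hd.2.1, e, ht'.2.1])
  have h4 := k u hu _ (mem_DP.2 ⟨h3, by rw [mul_smul, ht'.2.1, hd.2.1]⟩)
  have h5 := (k u hu d (mem_DP.2 ⟨hd.1, hd.2.1⟩)).inv_left.mul_left h4
  rw [inv_mul_cancel_left] at h5
  exact n (B.hs a b u t h hu ht h5)

theorem dvdA {a b : Om} (h : a ≠ b) {t : G} (ht : t ∈ Dab C a b) :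
    (2 ^ m) ^ i ∣ ((Fx Om t).card - 1) * ((Dab C a b).card - 1) := by
  have ht' := mem_DP.1 ht
  obtain ⟨R, e⟩ := C.exists_at (B.H.iv ht'.1 ht'.2.1)
  have hc : ∀ g ∈ R.S, Commute g t := fun g hg => e ▸ (R.ζ_comm 1 g hg).symm
  have := dvd_of_stab' R.S (((Fx Om t).erase a).sigma fun c => (Dab C a c).erase t)
    (fun g x => ⟨g • x.1, g * x.2 * g⁻¹⟩) (fun x => by simp) (fun g h x => by simp [mul_smul, mul_assoc])
    (fun g hg x hx => ?_) (r := 1) fun x hx P hP k => ?_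
  · rwa [R.card_S, one_mul, card_sigma, Finset.sum_congr rfl (g := fun _ => (Dab C a b).card - 1), sum_const,
      card_erase_of_mem (mem_Fx.2 ht'.2.1), smul_eq_mul] at this
    intro c hc
    rw [mem_erase, mem_Fx] at hc
    rw [card_erase_of_mem (mem_DP.2 ⟨ht'.1, ht'.2.1, hc.2⟩), card_Dab hc.1.symm h]
  · have ga := C.fix _ _ (R.S_le hg)
    simp only [mem_sigma, mem_erase, mem_Fx, mem_DP] at hx ⊢
    refine ⟨⟨fun k => hx.1.1 (smul_left_cancel g (k.trans ga.symm)), comm_smul (hc g hg) hx.1.2⟩, fun k => hx.2.1 ?_,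
      hx.2.2.1.conj g, by rw [← ga, conj_smul_iff, hx.2.2.2.1], by rw [conj_smul_iff, hx.2.2.2.2]⟩
    rw [← conj_eq_iff.2 (hc g hg)] at k
    simpa using k
  · rw [(Subgroup.eq_bot_iff_forall P).2 fun g hg => ?_, Subgroup.card_bot]
    by_contra g1
    simp only [mem_sigma, mem_erase, mem_Fx, mem_DP] at hx
    have h1 : g * x.2 * g⁻¹ = x.2 := congrArg (fun y : (Σ _ : Om, G) => y.2) (k g hg)
    obtain ⟨c, hc⟩ := R.iv_mem_Z_of_comm (B.H.iv hx.2.2.1 hx.2.2.2.1) (hP hg) g1 (conj_eq_iff.1 h1).symm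
    exact hx.2.1 (B.hs a x.1 t x.2 hx.1.1.symm (mem_DP.2 ⟨ht'.1, ht'.2.1, hx.1.2⟩) (mem_DP.2 hx.2.2)
      (by rw [← hc, ← e]; exact R.ζ_comm c _ (R.ζ_mem 1)))

theorem dvdB {a : Om} {t : G} (ht : D C t) (ha : t • a = a) : (2 ^ m) ^ i ∣ 2 ^ i * ((Fx Om t).card - 1) := by
  obtain ⟨R, e⟩ := C.exists_at (B.H.iv ht ha)
  have hc : ∀ g ∈ R.S, Commute g t := fun g hg => e ▸ (R.ζ_comm 1 g hg).symm
  rw [← R.card_S, ← card_erase_of_mem (mem_Fx.2 ha)]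
  refine dvd_of_stab' R.S _ (fun g x => g • x) (one_smul _) mul_smul (fun g hg x hx => ?_) fun x hx P hP k => ?_
  · rw [mem_erase, mem_Fx] at hx ⊢
    exact ⟨fun k => hx.1 (smul_left_cancel g (k.trans (C.fix _ _ (R.S_le hg)).symm)), comm_smul (hc g hg) hx.2⟩
  rw [mem_erase, mem_Fx] at hx
  have k1 : ∀ c, R.ζ c ∈ P → c = 0 ∨ c = 1 := fun c hc => or_iff_not_imp_left.2 fun c0 => by
    obtain ⟨h1, h2, h3⟩ := (B.H.mem_Z R e).2 ⟨c, c0, rfl⟩
    exact R.ζ_inj ((B.hs a x t _ hx.1.symm (mem_DP.2 ⟨ht, ha, hx.2⟩) (mem_DP.2 ⟨h1, h2, k _ hc⟩) h3).trans e.symm)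
  have k2 : ∀ s ∈ P, R.ω s ≠ 0 → R.ν (R.ω s) = 1 := fun s hs h0 =>
    (k1 _ (R.sq s (hP hs) ▸ mul_mem hs hs)).resolve_left (mt R.ν_eq_zero.1 h0)
  have h1 : Nat.card P ≤ 2 * ((univ.filter (· ∈ P)).image R.ω).card := by
    rw [Nat.card_eq_fintype_card, Fintype.card_subtype]
    refine card_le_mul_card_image _ 2 fun c hc => ?_
    obtain ⟨s, hs, rfl⟩ := mem_image.1 hc
    replace hs : s ∈ P := (Finset.mem_filter.1 hs).2
    refine (card_le_card (t := {s, t * s}) fun s' hs' => ?_).trans card_le_two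
    simp only [Finset.mem_filter, mem_univ, true_and] at hs'
    obtain ⟨c, rfl⟩ := (R.ω_eq_iff (hP hs'.1) (hP hs)).1 hs'.2
    rcases k1 c (by simpa using mul_mem hs'.1 (inv_mem hs)) with rfl | rfl
    · simp [R.ζ_zero]
    · simp [e]
  have h2 : 2 * ((univ.filter (· ∈ P)).image R.ω).card ≤ 2 ^ i := by
    have k3 : ∀ c ∈ (univ.filter (· ∈ P)).image R.ω, ∃ s ∈ P, R.ω s = c := fun c hc => by simpa using hc
    rcases R.i_cases with rfl | rfl | rfl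
    · have := card_le_card (s := (univ.filter (· ∈ P)).image R.ω) (t := {0}) fun c hc => by
        obtain ⟨s, hs, rfl⟩ := k3 c hc
        exact mem_singleton.2 ((R.ω_eq_zero (hP hs)).2 (R.S_eq_Z rfl ▸ hP hs))
      rw [card_singleton] at this
      omega
    · have := (card_le_card (s := (univ.filter (· ∈ P)).image R.ω) (t := {0, 1}) fun c hc => by
        obtain ⟨s, hs, rfl⟩ := k3 c hc
        by_cases h0 : R.ω s = 0
        · simp [h0]
        · simp [R.ν_inj (by norm_num) ((k2 s hs h0).trans R.ν_one.symm)]).trans card_le_two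
      omega
    · have := four_bound R.twoK R.θ ((univ.filter (· ∈ P)).image R.ω) (fun c hc d hd => by
        obtain ⟨s, hs, rfl⟩ := k3 c hc
        obtain ⟨s', hs', rfl⟩ := k3 d hd
        exact mem_image.2 ⟨s * s', by simpa using mul_mem hs hs', R.ω_mul s (hP hs) s' (hP hs')⟩) fun c hc h0 => by
        obtain ⟨s, hs, rfl⟩ := k3 c hc
        rw [← R.hν, k2 s hs h0, map_one]
      omega
  have h3 := card_dvd_of_le hP
  rw [R.card_S, ← pow_mul] at h3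
  obtain ⟨j, -, hj⟩ := (Nat.dvd_prime_pow Nat.prime_two).1 h3
  rw [hj] at h1 ⊢
  exact pow_dvd_pow 2 ((Nat.pow_le_pow_iff_right one_lt_two).1 (h1.trans h2))

theorem mem_N (hi : i ≠ 3) {a c : Om} (h : a ≠ c) {x : G} (hx : x ∈ C.N a) (hc : x • c = c) (ho : Odd (orderOf x)) :
    x ∈ C.N c := by
  obtain ⟨t, ht⟩ := B.H.exists_Dab h
  obtain ⟨v, v1, v2, v3⟩ := B.conj2 h (mem_DP.2 ht) (conj_Dab (C.fix _ _ hx) hc (mem_DP.2 ht))
  have h1 := pow_four_of_comm (C.loc a).some hi (mul_mem (inv_mem v1) hx) (B.H.iv ht.1 ht.2.1)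
    (conj_eq_iff.1 (by rw [mul_inv_rev, inv_inv, show v⁻¹ * x * t * (x⁻¹ * v) = v⁻¹ * (x * t * x⁻¹) * v by group, ← v3]
                       group))
  have h2 : ∀ n : ℕ, x ^ n * ((v⁻¹ * x) ^ n)⁻¹ ∈ C.N c := fun n => by
    induction n with
    | zero => simp
    | succ n ih =>
      rw [show x ^ (n + 1) * ((v⁻¹ * x) ^ (n + 1))⁻¹ = x * (x ^ n * ((v⁻¹ * x) ^ n)⁻¹) * x⁻¹ * v by
        rw [pow_succ', pow_succ']; simp only [mul_inv_rev, inv_inv, mul_assoc]]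
      exact mul_mem (Nm_conj (C.nm hc) ih) v2
  have h3 := h2 (2 ^ 2)
  rw [h1, inv_one, mul_one] at h3
  obtain ⟨k, hk⟩ := exists_pow_eq_self_of_coprime ((Nat.coprime_two_left.2 ho).pow_left 2)
  exact hk ▸ pow_mem h3 k

theorem B1 (hi : i ≠ 3) {a b : Om} (h : a ≠ b) {d t u : G} (hd : d ∈ Sw C a b) (ht : t ∈ Dab C a b)
    (hu : u ∈ Dab C a b) (n : t ≠ u) (c1 : Commute d t) (c2 : Commute d u) :
    ∃ p, p.Prime ∧ p ∣ (Dab C a b).card ∧ p ∣ (Fx Om d).card := by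
  obtain ⟨R⟩ := C.loc a
  rw [mem_DP] at hd
  have t1 := B.H.iv (mem_DP.1 ht).1 (mem_DP.1 ht).2.1
  have u1 := B.H.iv (mem_DP.1 hu).1 (mem_DP.1 hu).2.1
  have ho := R.odd_prod t1 u1 fun k => n (B.hs a b u t h hu ht k)
  obtain ⟨p, hp, hd'⟩ := Nat.exists_prime_and_dvd (n := orderOf (t * u)) fun k =>
    n (by rw [eq_inv_of_mul_eq_one_left (orderOf_eq_one_iff.1 k), u1.inv])
  have o1 := orderOf_pow_orderOf_div (orderOf_pos _).ne' hd'
  have x1 := dih0 t1.2.2 u1.2.2 (orderOf (t * u) / p)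
  have x2 : (t * u) ^ (orderOf (t * u) / p) ∈ C.N a := pow_mem (mul_mem t1.1 u1.1) _
  have x3 : (t * u) ^ (orderOf (t * u) / p) • b = b := C.fix _ _ (pow_mem
    (mul_mem (B.H.iv (mem_DP.1 ht).1 (mem_DP.1 ht).2.2).1 (B.H.iv (mem_DP.1 hu).1 (mem_DP.1 hu).2.2).1) _)
  have x4 : Commute ((t * u) ^ (orderOf (t * u) / p)) d := (c1.symm.mul_left c2.symm).pow_left _
  generalize (t * u) ^ (orderOf (t * u) / p) = x at o1 x1 x2 x3 x4
  have x5 : Odd (orderOf x) := o1 ▸ ho.of_dvd_nat hd'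
  have x6 : x ≠ 1 := fun k => hp.one_lt.ne' (by rw [← o1, k, orderOf_one])
  have x7 : x ^ p = 1 := o1 ▸ pow_orderOf_eq_one x
  refine ⟨p, hp, ?_, ?_⟩
  · by_contra k
    obtain ⟨y, hy, e⟩ := prime_fix (g := ConjAct.toConjAct x) (s := Dab C a b)
      (fun y hy => conj_Dab (C.fix _ _ x2) x3 hy) hp k fun y _ => by rw [← map_pow, x7, map_one, one_smul]
    refine x6 (R.P4 x2 x5 t1 ?_ (B.H.iv (mem_DP.1 hy).1 (mem_DP.1 hy).2.1) (conj_eq_iff.1 e))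
    rw [eq_inv_iff_mul_eq_one, t1.inv, mul_assoc t, ← x1, mul_assoc, mul_assoc, inv_mul_cancel, mul_one, t1.2.2]
  · by_contra k
    obtain ⟨c, hc, e⟩ := prime_fix (g := x) (s := Fx Om d) (fun y hy => mem_Fx.2 (comm_smul x4 (mem_Fx.1 hy))) hp k
      fun y _ => by rw [x7, one_smul]
    rw [mem_Fx] at hc
    exact x6 (eq_one_of_odd_two x5 (pow_four_of_comm (C.loc c).some hi
      (B.mem_N hi (fun k => h (by rw [← hd.2, k, hc])) x2 e x5) (B.H.iv hd.1 hc) x4))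

theorem sw_eq {a b : Om} (h : a ≠ b)
    (k : ∀ d ∈ Sw C a b, ∀ t ∈ Dab C a b, ∀ u ∈ Dab C a b, Commute d t → Commute d u → t = u) :
    (Sw C a b).card = (Dab C a b).card * (2 ^ m - 2) := by
  rw [← mul_one (card _)]
  refine Finset.card_mul_eq_card_mul (fun d t => Commute d t) (fun d hd => ?_) fun t ht => ?_
  · have hd' := mem_DP.1 hd
    obtain ⟨y, hy⟩ := odd_fix
      (fun y : Dab C a b => (⟨_, conj_Dab' hd'.2 (by rw [← hd'.2, hd'.1.ss]) y.2⟩ : Dab C a b))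
      (fun y => Subtype.ext (by
        simp only; rw [hd'.1.inv, ← mul_assoc, ← mul_assoc, hd'.1.sq, mul_assoc, hd'.1.sq]; simp))
      (by rw [Nat.card_eq_fintype_card, Fintype.card_coe]; exact B.odd_u h)
    have hy' := conj_eq_iff.1 (congrArg Subtype.val hy :)
    refine card_eq_one.2 ⟨y, Finset.eq_singleton_iff_unique_mem.2 ⟨(mem_bipartiteAbove _).2 ⟨y.2, hy'⟩, fun x hx => ?_⟩⟩
    rw [mem_bipartiteAbove] at hx
    exact k d hd x hx.1 y y.2 hx.2 hy'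
  · have := B.card_sw h ht
    rw [show 2 ^ m - 2 = (DP C fun d => d • a = b ∧ Commute d t).card by omega]
    congr 1
    ext d
    simp [bipartiteBelow, and_assoc]

omit B in
theorem num {u f s : ℕ} (hm : m = 2 ∨ m = 3) (hi : i = 1 ∨ (i = 2 ∧ Odd m) ∨ i = 3) (hu : Odd u) (u1 : 1 < u) (hf : Odd f)
    (f1 : 1 < f) (h3 : s * f + u = ((2 ^ m) ^ i + 1) * (2 ^ m - 1)) (c0 : u ∣ ((2 ^ m) ^ i + 1) * (2 ^ m - 1) * (f - 1))
    (hs : 2 ^ m - 1 ≤ s) (hA : (2 ^ m) ^ i ∣ (f - 1) * (u - 1)) (hB : (2 ^ m) ^ i ∣ 2 ^ i * (f - 1))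
    (h1 : i ≠ 3 → ¬ u.Coprime f ∨ s = u * (2 ^ m - 2)) : m = 2 ∧ i = 1 ∧ u = 3 ∧ f = 3 ∧ s = 4 := by
  have key : ∀ {r S Kk : ℕ}, r ∣ f - 1 → 0 < r → ((2 ^ m) ^ i + 1) * (2 ^ m - 1) < S * (r + 1) →
      ((2 ^ m) ^ i + 1) * (2 ^ m - 1) < Kk * r * (2 ^ m - 1) → Chk m i r S Kk →
      m = 2 ∧ i = 1 ∧ u = 3 ∧ f = 3 ∧ s = 4 := fun {r S Kk} ⟨k, hk⟩ r0 a1 a2 a3 => by
    obtain rfl : f = r * k + 1 := by omega
    have k0 : 0 < k := Nat.pos_of_mul_pos_left (by omega : 0 < r * k)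
    obtain rfl : u = ((2 ^ m) ^ i + 1) * (2 ^ m - 1) - s * (r * k + 1) := Nat.eq_sub_of_add_eq' h3
    refine a3 s ?_ k ?_ k0 ⟨hs, Nat.odd_iff.1 hu, u1, c0, hA, or_iff_not_imp_left.2 h1⟩
    · by_contra! hh
      have := Nat.mul_le_mul hh (show r + 1 ≤ r * k + 1 by nlinarith)
      omega
    · by_contra! hh
      have := Nat.mul_le_mul (Nat.mul_le_mul_right r hh) hs
      nlinarith
  rcases hm with rfl | rfl <;> rcases hi with rfl | ⟨rfl, hi⟩ | rfl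
  · exact key (r := 2) (S := 6) (Kk := 3) (by omega) (by omega) (by omega) (by omega) chk.1
  · exact absurd hi (by decide)
  · exact key (r := 8) (S := 22) (Kk := 9) (by omega) (by omega) (by omega) (by omega) chk.2.1
  · exact key (r := 4) (S := 13) (Kk := 3) (by omega) (by omega) (by omega) (by omega) chk.2.2.1
  · exact key (r := 16) (S := 27) (Kk := 5) (by omega) (by omega) (by omega) (by omega) chk.2.2.2.1
  · exact key (r := 64) (S := 56) (Kk := 9) (by omega) (by omega) (by omega) (by omega) chk.2.2.2.2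

theorem data {a b : Om} (h : a ≠ b) {t : G} (ht : D C t) :
    m = 2 ∧ i = 1 ∧ (Dab C a b).card = 3 ∧ (Fx Om t).card = 3 ∧ (Sw C a b).card = 4 := by
  obtain ⟨u, hu⟩ := B.H.exists_Dab h
  rw [card_Fx ht hu.1]
  have h1 := B.H.cnt1 h hu.1
  have h3 := B.H.cnt3 h hu.1
  rw [B.H.card_Da] at h1 h3
  refine num B.hm ?_ (B.odd_u h) (B.hu a b h) (B.odd_f hu.1)
    (one_lt_card.2 ⟨a, mem_Fx.2 hu.2.1, b, mem_Fx.2 hu.2.2, h⟩) h3 (Dvd.intro_left _ h1.symm) (B.sgt h)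
    (B.dvdA h (mem_DP.2 hu)) (B.dvdB hu.1 hu.2.1) fun hi => ?_
  · rcases (C.loc a).some.typ with k | k | k
    exacts [Or.inl k.1, Or.inr (Or.inl ⟨k.1, k.2.1⟩), Or.inr (Or.inr k.1)]
  · refine or_iff_not_imp_left.2 fun hc => B.sw_eq h fun d hd x hx y hy c1 c2 => ?_
    by_contra n
    obtain ⟨p, hp, p1, p2⟩ := B.B1 hi h hd hx hy n c1 c2
    rw [card_Fx (mem_DP.1 hd).1 hu.1] at p2
    exact hp.one_lt.ne' (Nat.eq_one_of_dvd_coprimes (not_not.1 hc) p1 p2)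

theorem card_Om [Nonempty Om] : Fintype.card Om = 11 := by
  obtain ⟨a⟩ := ‹Nonempty Om›
  obtain ⟨b, h⟩ := C.exists_ne a
  obtain ⟨u, hu⟩ := B.H.exists_Dab h
  obtain ⟨h1, h2, h3, h4, -⟩ := B.data h hu.1
  have k := B.H.cnt1 h hu.1
  rw [B.H.card_Da, h3, h4] at k
  subst h1 h2
  omega

theorem exists_two {a b : Om} (h : a ≠ b) :
    ∃ d ∈ Sw C a b, ∃ t ∈ Dab C a b, ∃ t' ∈ Dab C a b, t ≠ t' ∧ Commute d t ∧ Commute d t' := by
  by_contra k
  obtain ⟨u, hu⟩ := B.H.exists_Dab h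
  obtain ⟨h1, -, h3, -, h5⟩ := B.data h hu.1
  have := B.sw_eq h fun d hd x hx y hy c1 c2 => by_contra fun n => k ⟨d, hd, x, hx, y, hy, n, c1, c2⟩
  rw [h3, h5] at this
  subst h1
  omega

end NC

end Cfsg.Agent.L0.T3
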