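import Cfsg.Agent.L0.T3.F
import Cfsg.Agent.H5.TB3

/-! The degree `11` case and the conclusion. -/

set_option autoImplicit false
set_option linter.unusedSectionVars false

namespace Cfsg.Agent.L0.T3

open Cfsg.Agent.H5.TA Subgroup MulAction Finset
open scoped Classical

section

variable {G Om : Type*} [Group G] [Fintype G] [Fintype Om] [MulAction G Om] {F K : Type} [Field F] [Field K]
  {m i : ℕ} {C : Cfg G Om F K m i}

namespace NC

variable (B : NC C)
include B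

theorem third {a b : Om} (h : a ≠ b) {t : G} (ht : t ∈ Dab C a b) {x y : Om} (hx : t • x = x) (hy : t • y = y)
    (xa : x ≠ a) (xb : x ≠ b) (ya : y ≠ a) (yb : y ≠ b) : x = y := by
  rw [mem_DP] at ht
  have h1 : (((Fx Om t).erase a).erase b).card = 1 := by
    rw [card_erase_of_mem (mem_erase.2 ⟨h.symm, mem_Fx.2 ht.2.2⟩), card_erase_of_mem (mem_Fx.2 ht.2.1),
      (B.data h ht.1).2.2.2.1]
  exact card_le_one.1 h1.le _ (by simp [*]) _ (by simp [*])

theorem cen {a : Om} {c : G} (hc : c ∈ Cn (C.N a)) : c = 1 := by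
  have ca := C.cn_fix hc
  refine C.faith c fun b => ?_
  by_cases h : a = b
  · exact h ▸ ca
  by_contra hb
  obtain ⟨d, hd, t, ht, u, hu, n, c1, c2⟩ := B.exists_two h
  have ht' := mem_DP.1 ht
  have hu' := mem_DP.1 hu
  rw [mem_DP] at hd
  have k : ∀ t, D C t ∧ t • a = a ∧ t • b = b → t • c • b = c • b := fun t ht =>
    comm_smul (mem_Cn.1 hc t (B.H.iv ht.1 ht.2.1).1).symm ht.2.2
  have ha : c • b ≠ a := fun e => h (smul_left_cancel c (ca.trans e.symm))
  have db : d • b = a := by rw [← hd.2, hd.1.ss]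
  have h1 : d • c • b = c • b := B.third h ht (comm_smul c1 (k t ht')) (k t ht')
    (fun e => hb (smul_left_cancel d (e.trans db.symm))) (fun e => ha (smul_left_cancel d (e.trans hd.2.symm))) ha hb
  exact n (B.hs a b u t h hu ht (B.H.ctrans ht'.1 hd.1 hu'.1 (k t ht') h1 (k u hu') c1.symm c2))

theorem triv {a b : Om} (h : a ≠ b) {d t u : G} (hd : d ∈ Sw C a b) (ht : t ∈ Dab C a b) (hu : u ∈ Dab C a b) (n : t ≠ u)
    (c1 : Commute d t) (c2 : Commute d u) {k : G} (ka : k • a = a) (kb : k • b = b) (k1 : Commute k t)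
    (k2 : Commute k u) : k = 1 := by
  have ht' := mem_DP.1 ht
  rw [mem_DP] at hd
  obtain ⟨hm, hi, -⟩ := B.data h hd.1
  have ntu : ¬ Commute t u := fun e => n (B.hs a b u t h hu ht e)
  obtain ⟨c, tc, dc⟩ := B.exists_fix ht'.1 hd.1.sq c1
  have ca : c ≠ a := fun e => h (by rw [← hd.2, ← e, dc])
  have cb : c ≠ b := fun e => h (smul_left_cancel d (by rw [hd.2, ← e, dc]))
  have kc : k • c = c := B.third h ht (comm_smul k1 tc) tc (fun e => ca (smul_left_cancel k (e.trans ka.symm)))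
    (fun e => cb (smul_left_cancel k (e.trans kb.symm))) ca cb
  have dt : d ≠ t := fun e => h (by rw [← hd.2, e, ht'.2.1])
  have h3 := B.H.mul_D ht'.1 hd.1 tc dc c1 dt
  have h4 : (d * t) • a = b := by rw [mul_smul, ht'.2.1, hd.2]
  have h5 : d ≠ d * t := fun e => ht'.1.ne (left_eq_mul.1 e)
  have h6 : Commute (d * t) t := c1.mul_left (Commute.refl _)
  have kd : Commute k d := by
    have := B.card_sw h ht
    have e : 2 ^ m - 1 = 3 := by rw [hm]; rfl
    rcases mem_two (s := DP C fun d => d • a = b ∧ Commute d t) (by omega) (mem_DP.2 ⟨hd.1, hd.2, c1⟩)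
      (mem_DP.2 ⟨h3, h4, h6⟩) (mem_DP.2 ⟨hd.1.conj k, by rw [← ka, ← kb, conj_smul_iff, hd.2],
        (k1.mul_left c1).mul_left k1.inv_left⟩) h5 with e | e
    · exact conj_eq_iff.1 e
    · have := c2.inv_left.mul_left (e ▸ (k2.mul_left c2).mul_left k2.inv_left)
      rw [inv_mul_cancel_left] at this
      exact absurd this ntu
  obtain ⟨R, e⟩ := C.exists_at (B.H.iv ht'.1 tc)
  have hZ : ∀ z ∈ R.Z, z = 1 ∨ z = t ∨ z = d ∨ z = d * t := by
    rintro _ ⟨x, rfl⟩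
    by_cases x0 : x = 0
    · exact Or.inl (by rw [x0, R.ζ_zero])
    obtain ⟨z1, z2, z3⟩ := (B.H.mem_Z R e).2 ⟨x, x0, rfl⟩
    by_cases zt : R.ζ x = t
    · exact Or.inr (Or.inl zt)
    have := B.H.card_Z ht'.1 tc
    have e : 2 ^ m - 1 = 3 := by rw [hm]; rfl
    rw [← card_erase_add_one (a := t) (mem_DP.2 ⟨ht'.1, tc, Commute.refl _⟩)] at this
    exact Or.inr (Or.inr (mem_two (s := (DP C fun z => z • c = c ∧ Commute z t).erase t) (by omega)
      (mem_erase.2 ⟨dt, mem_DP.2 ⟨hd.1, dc, c1⟩⟩)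
      (mem_erase.2 ⟨fun e => hd.1.ne (mul_eq_right.1 e), mem_DP.2 ⟨h3, by rw [mul_smul, tc, dc], h6⟩⟩)
      (mem_erase.2 ⟨zt, mem_DP.2 ⟨z1, z2, z3⟩⟩) h5))
  obtain ⟨s, hs, h7⟩ := R.FA' (by omega) (C.nm kc) fun x => conj_eq_iff.2 (by
    rcases hZ _ (R.ζ_mem_Z x) with e | e | e | e <;> rw [e]
    exacts [Commute.one_right _, k1, kd, kd.mul_right k1])
  have h8 : k = s⁻¹ := eq_inv_of_mul_eq_one_right (B.cen h7)
  rcases hZ k (h8 ▸ inv_mem (R.S_eq_Z hi ▸ hs)) with e | e | e | e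
  · exact e
  · exact absurd (e ▸ k2) ntu
  · exact absurd (by rw [← hd.2, ← e, ka]) h
  · exact absurd (by rw [← h4, ← e, ka]) h

theorem card_G [Nonempty Om] : Nat.card G = 660 := by
  obtain ⟨a⟩ := ‹Nonempty Om›
  obtain ⟨b, h⟩ := C.exists_ne a
  obtain ⟨d, hd, t, ht, u, hu, n, c1, c2⟩ := B.exists_two h
  obtain ⟨hm, hi, h3, -⟩ := B.data h (mem_DP.1 hd).1
  refine le_antisymm ?_ ?_
  · have h1 : (univ : Finset G).card ≤ 6 * (univ : Finset Om).offDiag.card := by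
      refine card_le_mul_card_image_of_maps_to (f := fun g : G => (g • a, g • b))
        (fun g _ => mem_offDiag.2 ⟨mem_univ _, mem_univ _, fun e => h (smul_left_cancel g e)⟩) 6 fun p hp => ?_
      obtain ⟨g, g1, g2⟩ := C.two a b p.1 p.2 h (mem_offDiag.1 hp).2.2
      have e : (Dab C a b).offDiag.card = 6 := by rw [offDiag_card, h3]
      rw [← e]
      have k : ∀ x ∈ univ.filter fun x : G => (x • a, x • b) = p, (g⁻¹ * x) • a = a ∧ (g⁻¹ * x) • b = b := fun x hx => by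
        obtain rfl := (Finset.mem_filter.1 hx).2
        simp only [mul_smul, inv_smul_eq_iff]
        exact ⟨g1.symm, g2.symm⟩
      refine card_le_card_of_injOn (fun x => ((g⁻¹ * x) * t * (g⁻¹ * x)⁻¹, (g⁻¹ * x) * u * (g⁻¹ * x)⁻¹))
        (fun x hx => mem_offDiag.2 ⟨conj_Dab (k x hx).1 (k x hx).2 ht, conj_Dab (k x hx).1 (k x hx).2 hu,
          fun e => n (by simpa using e)⟩) fun x hx y hy e => ?_
      have k' : ∀ v : G, (g⁻¹ * x) * v * (g⁻¹ * x)⁻¹ = (g⁻¹ * y) * v * (g⁻¹ * y)⁻¹ →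
          Commute ((g⁻¹ * y)⁻¹ * (g⁻¹ * x)) v := fun v e => conj_eq_iff.1 (by
        rw [show (g⁻¹ * y)⁻¹ * (g⁻¹ * x) * v * ((g⁻¹ * y)⁻¹ * (g⁻¹ * x))⁻¹ =
          (g⁻¹ * y)⁻¹ * ((g⁻¹ * x) * v * (g⁻¹ * x)⁻¹) * (g⁻¹ * y) by group, e]
        group)
      have := B.triv h hd ht hu n c1 c2 (by rw [mul_smul, (k x hx).1, inv_smul_eq_iff, (k y hy).1])
        (by rw [mul_smul, (k x hx).2, inv_smul_eq_iff, (k y hy).2]) (k' t (congrArg Prod.fst e))
        (k' u (congrArg Prod.snd e))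
      exact (mul_left_cancel (inv_mul_eq_one.1 this)).symm
    rwa [offDiag_card, card_univ, card_univ, B.card_Om, ← Nat.card_eq_fintype_card] at h1
  · have h1 := C.card_ge a
    rw [(C.loc a).some.card_N_one hi, Nat.card_eq_fintype_card (α := Om), B.card_Om, hm] at h1
    exact h1

end NC

end

theorem pieceIV3 {G Om : Type*} [Group G] [Finite G] [Finite Om] [Nonempty Om] [MulAction G Om] {F K : Type} [Field F]
    [Field K] {m i : ℕ} (C : Cfg G Om F K m i) (h1 : ∀ a b, a ≠ b → ∃ t, Iv (C.N a) t ∧ t ∈ C.N b)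
    (hF : ∀ a b t, Iv (C.N a) t → t • b = b → t ∈ C.N b)
    (hZ' : ∀ a b t, a ≠ b → Iv (C.N a) t → t ∈ C.N b → ∃ u, Iv (C.N a) u ∧ Commute u t ∧ u • b ≠ b) :
    Nat.card Om = 11 ∧ Nat.card G = 660 ∧ m = 2 ∧ i = 1 := by
  have := Fintype.ofFinite G
  have := Fintype.ofFinite Om
  have B := Hy.nc ⟨h1, hF, hZ'⟩
  obtain ⟨a⟩ := ‹Nonempty Om›
  obtain ⟨b, h⟩ := C.exists_ne a
  obtain ⟨t, ht⟩ := C.exists_iv a
  have := B.data h (D.of ht)
  exact ⟨Nat.card_eq_fintype_card.trans B.card_Om, B.card_G, this.1, this.2.1⟩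

end Cfsg.Agent.L0.T3
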